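import Mathlib
import Cfsg.Agent.Lib.Elem70.Degrees.SL2Deg

/-!
# Degrees of the irreducible characters of `PSL₂(q)` for `q ≡ 1 mod 4`
-/

set_option autoImplicit false
set_option linter.unusedSectionVars false

namespace Cfsg.Agent.Lib.PSLDegrees81

open Cfsg.Agent.Lib.SL2Chars49
open Cfsg.Agent.Lib.Characters

variable {F : Type*} [Field F] [Fintype F]

local notation "SL" => Matrix.SpecialLinearGroup (Fin 2) F
local notation "PSL" => Matrix.ProjectiveSpecialLinearGroup (Fin 2) F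

theorem sc_mem_center [DecidableEq F] (z : RtT F) : sc z ∈ Subgroup.center SL := by
  refine Matrix.SpecialLinearGroup.mem_center_iff.2 ⟨z.1, ?_, ?_⟩
  · have e : z.1 * z.1 = 1 := z.2
    simpa [sq] using e
  · ext i j
    fin_cases i <;> fin_cases j <;> simp [sc, nu, Cfsg.Agent.Lib.PSLTwo.Sylow.mk2, Matrix.scalar]

/-- An irreducible character of `PSL₂` seen on `SL₂`, constant on the scalars. -/
theorem exists_lift_sc [DecidableEq F] (φ : Cfsg.IrrCharacter PSL) :
    ∃ χ : Cfsg.IrrCharacter SL, (∀ z : RtT F, (χ : SL → ℂ) (sc z) = (φ : PSL → ℂ) 1) ∧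
      ∀ g : SL, (χ : SL → ℂ) g = (φ : PSL → ℂ) (QuotientGroup.mk' (Subgroup.center SL) g) :=
  ⟨⟨_, Basic.isIrrCharacter_comp (QuotientGroup.mk' (Subgroup.center SL))
    (QuotientGroup.mk'_surjective _) φ.2⟩, fun z => by
      show (φ : PSL → ℂ) (QuotientGroup.mk' (Subgroup.center SL) (sc z)) = _
      exact congrArg (φ : PSL → ℂ) ((QuotientGroup.eq_one_iff _).2 (sc_mem_center z)),
    fun _ => rfl⟩

theorem psl_degree_one (h4 : 4 ≤ Fintype.card F) {φ : Cfsg.IrrCharacter PSL}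
    (h : (φ : PSL → ℂ) 1 = 1) : φ = Basic.oneChar PSL := by
  classical
  obtain ⟨χ, -, hχ⟩ := exists_lift_sc φ
  have h1 : (χ : SL → ℂ) 1 = 1 := by rw [hχ, map_one, h]
  have hsub : Subsingleton {χ : Cfsg.IrrCharacter SL // (χ : SL → ℂ) 1 = 1} :=
    (Nat.card_eq_one_iff_unique.1 (card_deg_one h4)).1
  have e : χ = Basic.oneChar SL :=
    congrArg Subtype.val (@Subsingleton.elim _ hsub ⟨χ, h1⟩ ⟨Basic.oneChar SL, rfl⟩)
  refine Subtype.ext (funext fun x => ?_)
  obtain ⟨g, rfl⟩ := QuotientGroup.mk'_surjective (Subgroup.center SL) x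
  rw [← hχ, e]
  rfl

theorem psl_card_deg_one (h4 : 4 ≤ Fintype.card F) :
    Nat.card {φ : Cfsg.IrrCharacter PSL // (φ : PSL → ℂ) 1 = 1} = 1 :=
  Nat.card_eq_one_iff_unique.2
    ⟨⟨fun a b => Subtype.ext ((psl_degree_one h4 a.2).trans (psl_degree_one h4 b.2).symm)⟩,
      ⟨⟨Basic.oneChar PSL, rfl⟩⟩⟩

theorem psl_deg_cases (h1 : Fintype.card F % 4 = 1) (φ : Cfsg.IrrCharacter PSL) {d : ℕ}
    (hd : (φ : PSL → ℂ) 1 = d) :
    d = 1 ∨ d = Fintype.card F ∨ d = Fintype.card F + 1 ∨ d + 1 = Fintype.card F ∨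
      2 * d = Fintype.card F + 1 := by
  classical
  obtain ⟨χ, hχ, -⟩ := exists_lift_sc φ
  obtain ⟨C, hC, hcard⟩ := exists_C (F := F)
  have hd' : (χ : SL → ℂ) 1 = d := by rw [one_eq_sc, hχ, hd]
  rcases classify hC hcard χ.2 with hb | ⟨ho, hb | hb⟩
  · rcases hb.degree with ⟨e, -⟩ | ⟨e, -⟩ | ⟨e, -⟩ | ⟨e, -⟩
    · left; exact_mod_cast hd'.symm.trans e
    · right; left; exact_mod_cast hd'.symm.trans e
    · right; right; left; exact_mod_cast hd'.symm.trans e
    · right; right; right; left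
      have : ((d + 1 : ℕ) : ℂ) = ((Fintype.card F : ℕ) : ℂ) := by
        push_cast; linear_combination e - hd'
      exact_mod_cast this
  · right; right; right; right
    have : ((2 * d : ℕ) : ℂ) = ((Fintype.card F + 1 : ℕ) : ℂ) := by
      push_cast; linear_combination hb.degree - 2 * hd'
    exact_mod_cast this
  · exfalso
    obtain ⟨ε, θ, c, hε, hε1, hθ, hθ1, -, hf⟩ := hb
    have hev : Even ((Fintype.card F - 1) / 2) := Nat.even_iff.2 (by omega)
    have hm : (θ (scC hC hcard ⟨-1, rt_neg_one⟩) : ℂ) = -1 := by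
      rw [theta0_neg_one hC hcard hθ hθ1 ho hε hε1, eps_neg_one hε hε1 ho, hev.neg_one_pow]
    have e1 := congrFun hf (sc ⟨-1, rt_neg_one⟩)
    have e2 := congrFun hf 1
    rw [hχ] at e1
    rw [one_eq_sc, hχ, e1] at e2
    simp only [halfFun_sc, dX_sc, hm] at e2
    have e3 : dX hC hcard θ 1 = (Fintype.card F : ℂ) - 1 := dX_one hC hcard θ
    rw [one_eq_sc, dX_sc] at e3
    have : (Fintype.card F : ℂ) = ((1 : ℕ) : ℂ) := by
      push_cast
      linear_combination (-1 : ℂ) * e2 - (1 / 2 : ℂ) * e3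
    have h2 : Fintype.card F = 1 := by exact_mod_cast this
    have h3 : 1 < Fintype.card F := Fintype.one_lt_card
    omega

end Cfsg.Agent.Lib.PSLDegrees81
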