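import Mathlib
import Cfsg.Agent.S0731
import Cfsg.Agent.Lib.Linear.Order
import Cfsg.Agent.Lib.Linear.FamilyHom

/-!
# `PSL₂(p²)` from its order and the centralisers of `p`-elements

A finite group of order `q (q² - 1) / 2`, `q = p²` with `p` odd, in which every element of order
divisible by `p` is a `p`-element, is a Zassenhaus group on its Sylow `p`-subgroups, hence `PSL₂(q)`.
-/

set_option autoImplicit false

namespace Cfsg.Agent.Lib.PSLDegrees81

section Orbits

variable {H X : Type*} [Group H] [Finite H] [Finite X] [MulAction H X]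

/-- If all stabilisers are equal to `D`, the index of `D` divides the number of points. -/
theorem index_dvd_card (D : Subgroup H) (h : ∀ x : X, MulAction.stabilizer H x = D) :
    D.index ∣ Nat.card X := by
  classical
  have := Fintype.ofFinite (MulAction.orbitRel.Quotient H X)
  rw [Nat.card_congr (MulAction.selfEquivSigmaOrbitsQuotientStabilizer H X), Nat.card_sigma]
  refine Finset.dvd_sum fun ω _ => ?_
  rw [h, Subgroup.index_eq_card]

/-- One fixed point, and `D` is the stabiliser of each of the other points. -/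
theorem index_dvd_card_sub_one (x₀ : X) (h0 : ∀ h : H, h • x₀ = x₀) (D : Subgroup H)
    (h : ∀ x : X, x ≠ x₀ → MulAction.stabilizer H x = D) : D.index ∣ Nat.card X - 1 := by
  let S : SubMulAction H X :=
    { carrier := {x | x ≠ x₀}
      smul_mem' := fun a x hx e => hx (MulAction.injective a (e.trans (h0 a).symm)) }
  have h1 : D.index ∣ Nat.card S :=
    index_dvd_card D fun x => (SubMulAction.stabilizer_of_subMul x).trans (h x.1 x.2)
  have h2 : Nat.card S = Nat.card X - 1 := by
    show Nat.card ↥({x₀}ᶜ : Set X) = _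
    rw [Nat.card_coe_set_eq, Set.ncard_compl, Set.ncard_singleton]
  rwa [h2] at h1

end Orbits

/-- The hypotheses: the order of `PSL₂(p²)`, and `p`-singular elements are `p`-elements. -/
structure Hyp (p : ℕ) (G : Type*) [Group G] : Prop where
  prime : p.Prime
  odd : p ≠ 2
  card : 2 * Nat.card G = p ^ 2 * ((p ^ 2) ^ 2 - 1)
  key : ∀ g : G, p ∣ orderOf g → ∃ k, orderOf g = p ^ k

variable {G : Type*} [Group G] [Finite G] {p : ℕ} [Fact p.Prime]

namespace Hyp

variable (H : Hyp p G)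
include H

omit [Finite G] in
theorem q_odd : Odd (p ^ 2) := (H.prime.odd_of_ne_two H.odd).pow

omit [Finite G] in
theorem nine_le : 9 ≤ p ^ 2 :=
  Nat.pow_le_pow_left (lt_of_le_of_ne H.prime.two_le H.odd.symm : 3 ≤ p) 2

omit [Finite G] in
theorem exists_m : ∃ m, Nat.card G = p ^ 2 * m ∧ 2 * m + 1 = (p ^ 2) ^ 2 ∧ ¬ p ∣ m := by
  obtain ⟨m, hm⟩ : Odd ((p ^ 2) ^ 2) := H.q_odd.pow
  have hc := H.card
  rw [show (p ^ 2) ^ 2 - 1 = 2 * m by omega] at hc
  refine ⟨m, ?_, hm.symm, fun hd => ?_⟩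
  · have : 2 * Nat.card G = 2 * (p ^ 2 * m) := by rw [hc]; ring
    omega
  · have h1 : p ∣ 2 * m + 1 := hm ▸ dvd_pow (dvd_pow_self p two_ne_zero) two_ne_zero
    exact H.prime.not_dvd_one ((Nat.dvd_add_right (hd.mul_left 2)).1 h1)

theorem card_sylow (P : Sylow p G) : Nat.card P = p ^ 2 := by
  obtain ⟨m, hm, -, hnd⟩ := H.exists_m
  have hm0 : m ≠ 0 := fun h => hnd (h ▸ dvd_zero p)
  rw [Sylow.card_eq_multiplicity, hm, Nat.factorization_mul (pow_ne_zero _ H.prime.ne_zero) hm0,
    Finsupp.add_apply, H.prime.factorization_pow, Finsupp.single_eq_same,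
    Nat.factorization_eq_zero_of_not_dvd hnd, add_zero]

theorem comm_sylow (P : Sylow p G) {x y : G} (hx : x ∈ P) (hy : y ∈ P) : x * y = y * x :=
  congrArg Subtype.val (IsPGroup.commutative_of_card_eq_prime_sq (p := p) (G := ↥(P : Subgroup G))
    (H.card_sylow P) ⟨x, hx⟩ ⟨y, hy⟩)

/-- The centraliser of a non-trivial element of a Sylow subgroup is that Sylow subgroup. -/
theorem centralizer_le (P : Sylow p G) {x : G} (hx : x ∈ P) (hx1 : x ≠ 1) :
    Subgroup.centralizer ({x} : Set G) = P := by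
  obtain ⟨i, hi⟩ := IsPGroup.iff_orderOf.mp P.isPGroup' ⟨x, hx⟩
  rw [Subgroup.orderOf_mk] at hi
  have hpx : p ∣ orderOf x := by
    rcases Nat.eq_zero_or_pos i with rfl | hi0
    · exact absurd (orderOf_eq_one_iff.1 (hi.trans (pow_zero p))) hx1
    · exact hi ▸ dvd_pow_self p hi0.ne'
  refine P.is_maximal' (IsPGroup.iff_orderOf.mpr fun g => ?_) fun y hy => ?_
  · rw [← Subgroup.orderOf_coe]
    have hcm : Commute (g : G) x := Subgroup.mem_centralizer_singleton_iff.1 g.2
    by_cases hpg : p ∣ orderOf (g : G)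
    · exact H.key _ hpg
    · have hco : Nat.Coprime (orderOf (g : G)) (orderOf x) := by
        rw [hi]
        exact (Nat.Coprime.pow_left i (H.prime.coprime_iff_not_dvd.2 hpg)).symm
      have ho := hcm.orderOf_mul_eq_mul_orderOf_of_coprime hco
      obtain ⟨k, hk⟩ := H.key ((g : G) * x) (ho ▸ dvd_mul_of_dvd_right hpx _)
      obtain ⟨l, -, hl⟩ := (Nat.dvd_prime_pow H.prime).1 (hk ▸ ho ▸ dvd_mul_right _ (orderOf x) :
        orderOf (g : G) ∣ p ^ k)
      exact ⟨l, hl⟩
  · exact Subgroup.mem_centralizer_singleton_iff.2 (H.comm_sylow P hy hx)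

theorem mem_of_commute (P : Sylow p G) {x g : G} (hx : x ∈ P) (hx1 : x ≠ 1)
    (h : g * x = x * g) : g ∈ P := by
  have : g ∈ Subgroup.centralizer ({x} : Set G) := Subgroup.mem_centralizer_singleton_iff.2 h
  rwa [H.centralizer_le P hx hx1] at this

theorem ti (P Q : Sylow p G) {x : G} (hP : x ∈ P) (hQ : x ∈ Q) (hx1 : x ≠ 1) : P = Q :=
  Sylow.ext ((H.centralizer_le P hP hx1).symm.trans (H.centralizer_le Q hQ hx1))

/-- A Sylow subgroup acts semiregularly on the other Sylow subgroups. -/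
theorem eq_one_of_smul (P Q : Sylow p G) (hne : Q ≠ P) {x : G} (hx : x ∈ P) (h : x • Q = Q) :
    x = 1 := by
  by_contra hx1
  have h2 : x ∈ (P : Subgroup G) ⊓ Subgroup.normalizer (Q : Set G) :=
    ⟨hx, Sylow.smul_eq_iff_mem_normalizer.1 h⟩
  rw [IsPGroup.inf_normalizer_sylow P.isPGroup'] at h2
  exact hne (H.ti Q P h2.2 hx hx1)

theorem mem_normalizer_self {P : Sylow p G} {x : G} (hx : x ∈ P) : x • P = P :=
  Sylow.smul_eq_iff_mem_normalizer.2 (Subgroup.le_normalizer hx)

theorem q_dvd (P : Sylow p G) : p ^ 2 ∣ Nat.card (Sylow p G) - 1 := by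
  have h := index_dvd_card_sub_one (H := ↥(P : Subgroup G)) P
    (fun x => H.mem_normalizer_self x.2) ⊥ fun Q hQ => (Subgroup.eq_bot_iff_forall _).2 fun x hx =>
      Subtype.ext (H.eq_one_of_smul P Q hQ x.2 (MulAction.mem_stabilizer_iff.1 hx))
  rwa [Subgroup.index_bot, H.card_sylow] at h

theorem index_dvd (P : Sylow p G) :
    ((P : Subgroup G).subgroupOf (Subgroup.normalizer (P : Set G))).index ∣ p ^ 2 - 1 := by
  let N : Subgroup G := Subgroup.normalizer ((P : Subgroup G) : Set G)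
  let f : N →* MulAut (P : Subgroup G) := (P : Subgroup G).normalizerMonoidHom
  letI : MulAction N (P : Subgroup G) := MulAction.compHom _ f
  have hco : ∀ (g : N) (x : (P : Subgroup G)), ((g • x : (P : Subgroup G)) : G) =
      (g : G) * (x : G) * (g : G)⁻¹ := fun g x => rfl
  have h := index_dvd_card_sub_one (H := N) (1 : (P : Subgroup G)) (fun g => map_one (f g))
    ((P : Subgroup G).subgroupOf N) fun x hx => ?_
  · rwa [H.card_sylow] at h
  ext g
  rw [MulAction.mem_stabilizer_iff, Subgroup.mem_subgroupOf, Subtype.ext_iff, hco,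
    mul_inv_eq_iff_eq_mul]
  exact ⟨H.mem_of_commute P x.2 (fun e => hx (Subtype.ext e)),
    fun hg => H.comm_sylow P hg x.2⟩

/-- There are `p² + 1` Sylow `p`-subgroups, and the normaliser has order `p² (p² - 1) / 2`. -/
theorem count (P : Sylow p G) : Nat.card (Sylow p G) = p ^ 2 + 1 ∧
    2 * Nat.card (Subgroup.normalizer (P : Set G)) = p ^ 2 * (p ^ 2 - 1) := by
  obtain ⟨m, hm, hm2, -⟩ := H.exists_m
  have hq := H.nine_le
  set e := ((P : Subgroup G).subgroupOf (Subgroup.normalizer (P : Set G))).index with he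
  have hN : Nat.card (Subgroup.normalizer (P : Set G)) = p ^ 2 * e := by
    rw [he, ← H.card_sylow P, ← Nat.card_congr
      (Subgroup.subgroupOfEquivOfLe (Subgroup.le_normalizer (H := (P : Subgroup G)))).toEquiv]
    exact (Subgroup.card_mul_index _).symm
  have hn : 0 < Nat.card (Sylow p G) := Nat.card_pos
  have hG : Nat.card (Sylow p G) * e = m := by
    have h1 := (Subgroup.normalizer (P : Set G)).card_mul_index
    rw [← Sylow.card_eq_index_normalizer, hN, hm, mul_assoc] at h1
    have := Nat.eq_of_mul_eq_mul_left (by omega) h1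
    rw [mul_comm]; exact this
  obtain ⟨k, hk⟩ := H.q_dvd P
  have he1 : e ∣ p ^ 2 - 1 := H.index_dvd P
  have hele : e ≤ p ^ 2 - 1 := Nat.le_of_dvd (by omega) he1
  generalize Nat.card (Sylow p G) = n at *
  generalize p ^ 2 = q at *
  have hn' : n = 1 + q * k := by omega
  subst hn'
  have h1 : q ∣ 2 * e + 1 := by
    have h2 : 2 * ((1 + q * k) * e) + 1 = q * q := by rw [hG, hm2, sq]
    have h3 : 2 * e + 1 + q * (2 * k * e) = q * q := by rw [← h2]; ring
    exact (Nat.dvd_add_left (dvd_mul_right q _)).1 (h3 ▸ dvd_mul_right q q)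
  have h4 : 2 * e + 1 = q := by
    obtain ⟨c, hc⟩ := h1
    rcases c with _ | _ | c
    · omega
    · omega
    · have : q * 2 ≤ q * (c + 1 + 1) := Nat.mul_le_mul_left _ (by omega)
      omega
  refine ⟨?_, ?_⟩
  · have h2 : 2 * ((1 + q * k) * e) + 1 = q * q := by rw [hG, hm2, sq]
    have h5 : (1 + q * k) * (2 * e) = (q + 1) * (2 * e) := by rw [← h4] at h2 ⊢; nlinarith
    exact Nat.eq_of_mul_eq_mul_right (by omega) h5
  · rw [hN, mul_left_comm, show q - 1 = 2 * e by omega]

/-- A Sylow subgroup is regular on the other Sylow subgroups. -/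
theorem existsUnique (P Q R : Sylow p G) (hQ : Q ≠ P) (hR : R ≠ P) :
    ∃! u : (P : Subgroup G), (u : G) • Q = R := by
  classical
  let f : ↥(P : Subgroup G) → {S : Sylow p G // S ≠ P} := fun u =>
    ⟨(u : G) • Q, fun h => hQ (MulAction.injective (u : G) (h.trans (H.mem_normalizer_self u.2).symm))⟩
  have hinj : Function.Injective f := fun u v h => by
    have h' : (u : G) • Q = (v : G) • Q := congrArg Subtype.val h
    have : ((v : G)⁻¹ * u) • Q = Q := by rw [mul_smul, h', inv_smul_smul]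
    have := H.eq_one_of_smul P Q hQ (mul_mem (inv_mem v.2) u.2) this
    exact Subtype.ext (inv_mul_eq_one.1 this).symm
  have hcard : Nat.card (P : Subgroup G) = Nat.card {S : Sylow p G // S ≠ P} := by
    show Nat.card P = Nat.card ↥({P}ᶜ : Set (Sylow p G))
    rw [H.card_sylow, Nat.card_coe_set_eq, Set.ncard_compl, Set.ncard_singleton, (H.count P).1,
      Nat.add_sub_cancel]
  have hbij := (Nat.bijective_iff_injective_and_card f).2 ⟨hinj, hcard⟩
  obtain ⟨u, hu⟩ := hbij.2 ⟨R, hR⟩
  exact ⟨u, congrArg Subtype.val hu, fun v hv => hbij.1 (Subtype.ext (hv.trans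
    (congrArg Subtype.val hu).symm))⟩

theorem eq_one_of_three (g : G) (A B C : Sylow p G) (hAB : A ≠ B) (hBC : B ≠ C) (hAC : A ≠ C)
    (hA : g • A = A) (hB : g • B = B) (hC : g • C = C) : g = 1 := by
  obtain ⟨u, hu, huniq⟩ := H.existsUnique A B C hAB.symm hAC.symm
  have hu1 : (u : G) ≠ 1 := fun h => hBC (by rwa [h, one_smul] at hu)
  have hgu : g * u * g⁻¹ ∈ (A : Subgroup G) :=
    (Subgroup.mem_normalizer_iff.1 (Sylow.smul_eq_iff_mem_normalizer.1 hA) u).1 u.2
  have h1 : (g * (u : G) * g⁻¹) • B = C := by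
    rw [mul_smul, mul_smul, inv_smul_eq_iff.2 hB.symm, hu, hC]
  have h2 : g * (u : G) * g⁻¹ = u := congrArg Subtype.val (huniq ⟨_, hgu⟩ h1)
  exact H.eq_one_of_smul A B hAB.symm (H.mem_of_commute A u.2 hu1 (mul_inv_eq_iff_eq_mul.1 h2)) hB

theorem exists_pair : ∃ A B C : Sylow p G, A ≠ B ∧ B ≠ C ∧ A ≠ C := by
  classical
  have := Fintype.ofFinite (Sylow p G)
  have h : 2 < Fintype.card (Sylow p G) := by
    rw [← Nat.card_eq_fintype_card, (H.count default).1]
    have := H.nine_le
    omega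
  obtain ⟨a, b, c, hab, hac, hbc⟩ := Fintype.two_lt_card_iff.1 h
  exact ⟨a, b, c, hab, hbc, hac⟩

theorem two_pretransitive : MulAction.IsMultiplyPretransitive G (Sylow p G) 2 := by
  rw [MulAction.is_two_pretransitive_iff]
  intro a b c d hab hcd
  obtain ⟨g, hg⟩ := MulAction.exists_smul_eq G a c
  have hb : g • b ≠ c := fun h => hab (MulAction.injective g (hg.trans h.symm))
  obtain ⟨u, hu, -⟩ := H.existsUnique c (g • b) d hb hcd.symm
  exact ⟨(u : G) * g, by rw [mul_smul, hg, H.mem_normalizer_self u.2], by rw [mul_smul, hu]⟩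

theorem exists_two_fixed : ∃ g : G, g ≠ 1 ∧ ∃ a b : Sylow p G, a ≠ b ∧ g • a = a ∧ g • b = b := by
  obtain ⟨A, B, C, hAB, -, -⟩ := H.exists_pair
  obtain ⟨g, hg, hgA⟩ : ∃ g ∈ Subgroup.normalizer (A : Set G), g ∉ A := by
    by_contra! h
    have h1 : Nat.card (Subgroup.normalizer (A : Set G)) ≤ Nat.card A :=
      Subgroup.card_le_of_le (fun g hg => h g hg)
    have h2 := (H.count A).2
    have h3 := H.nine_le
    rw [H.card_sylow] at h1
    obtain ⟨r, hr⟩ : ∃ r, p ^ 2 = r + 1 := ⟨p ^ 2 - 1, by omega⟩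
    rw [hr, Nat.add_sub_cancel] at h2
    nlinarith
  have hgA' : g • A = A := Sylow.smul_eq_iff_mem_normalizer.2 hg
  have hgB : g • B ≠ A := fun h => hAB (MulAction.injective g (hgA'.trans h.symm))
  obtain ⟨u, hu, -⟩ := H.existsUnique A B (g • B) hAB.symm hgB
  refine ⟨(u : G)⁻¹ * g, fun h => hgA ?_, A, B, hAB, ?_, ?_⟩
  · rw [← inv_mul_eq_one.1 h]; exact u.2
  · rw [mul_smul, hgA', inv_smul_eq_iff, H.mem_normalizer_self u.2]
  · rw [mul_smul, inv_smul_eq_iff, hu]

/-- No normal subgroup is regular: its order would be even and all its non-trivial elements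
conjugate, so it would be a `2`-group of order `p² + 1 ≡ 2 mod 4`. -/
theorem no_regular (N : Subgroup G) (hN : N.Normal)
    (ht : MulAction.IsPretransitive N (Sylow p G)) :
    ∃ a : Sylow p G, MulAction.stabilizer N a ≠ ⊥ := by
  classical
  by_contra! h
  obtain ⟨A, B, C, hAB, -, -⟩ := H.exists_pair
  have hcardN : Nat.card N = p ^ 2 + 1 := by
    rw [← (H.count A).1]
    refine Nat.card_congr (Equiv.ofBijective (fun n : N => n • A) ⟨fun x y hxy => ?_,
      fun b => MulAction.exists_smul_eq N A b⟩)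
    have : (y⁻¹ * x) ∈ MulAction.stabilizer N A := by
      rw [MulAction.mem_stabilizer_iff, mul_smul, show x • A = y • A from hxy, inv_smul_smul]
    rw [h A, Subgroup.mem_bot] at this
    exact (inv_mul_eq_one.1 this).symm
  have hinj : ∀ {x y : N}, (x : G) • A = (y : G) • A → x = y := fun {x y} hxy => by
    have : (y⁻¹ * x) ∈ MulAction.stabilizer N A := by
      rw [MulAction.mem_stabilizer_iff, mul_smul, show x • A = y • A from hxy, inv_smul_smul]
    rw [h A, Subgroup.mem_bot] at this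
    exact (inv_mul_eq_one.1 this).symm
  obtain ⟨j, hj⟩ := H.q_odd
  obtain ⟨t, ht2⟩ := exists_prime_orderOf_dvd_card' 2 (show 2 ∣ Nat.card N by rw [hcardN, hj]; omega)
  have ht1 : t ≠ 1 := fun e => by simp [e] at ht2
  have hall : IsPGroup 2 N := IsPGroup.iff_orderOf.mpr fun n => by
    rcases eq_or_ne n 1 with rfl | hn
    · exact ⟨0, by simp⟩
    refine ⟨1, ?_⟩
    have hnA : ∀ {m : N}, m ≠ 1 → A ≠ (m : G) • A := fun {m} hm e => hm (hinj (by simpa using e.symm))
    obtain ⟨g, hgA, hgt⟩ := (MulAction.is_two_pretransitive_iff.1 H.two_pretransitive)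
      (hnA ht1) (hnA hn)
    have e : (⟨g * t * g⁻¹, hN.conj_mem t t.2 g⟩ : N) = n := hinj (by
      show (g * (t : G) * g⁻¹) • A = _
      rw [mul_smul, mul_smul, inv_smul_eq_iff.2 hgA.symm, hgt])
    rw [← e, ← Subgroup.orderOf_coe, pow_one]
    show orderOf (MulAut.conj g (t : G)) = 2
    rw [MulEquiv.orderOf_eq, Subgroup.orderOf_coe, ht2]
  obtain ⟨k, hk⟩ := IsPGroup.iff_card.mp hall
  rw [hcardN] at hk
  obtain ⟨j', hj'⟩ := H.prime.odd_of_ne_two H.odd
  have h9 := H.nine_le
  rcases k with _ | _ | k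
  · rw [pow_zero] at hk; omega
  · rw [zero_add, pow_one] at hk; omega
  · have e1 : p ^ 2 = 4 * (j' * j' + j') + 1 := by rw [hj']; ring
    have e2 : 2 ^ (k + 1 + 1) = 4 * 2 ^ k := by ring
    omega

theorem isZassenhaus : Cfsg.IsZassenhausGroup G (Sylow p G) := by
  refine ⟨⟨fun {g₁ g₂} hg => ?_⟩, H.two_pretransitive,
    fun g a b c h1 h2 h3 => H.eq_one_of_three g a b c h1 h2 h3, H.exists_two_fixed,
    fun N hN ht => H.no_regular N hN ht⟩
  obtain ⟨A, B, C, h1, h2, h3⟩ := H.exists_pair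
  refine (inv_mul_eq_one.1 (H.eq_one_of_three (g₂⁻¹ * g₁) A B C h1 h2 h3 ?_ ?_ ?_)).symm <;>
    rw [mul_smul, hg, inv_smul_smul]

theorem not_sharp : ¬ (MulAction.IsMultiplyPretransitive G (Sylow p G) 3 ∧
    ∀ t : Fin 3 ↪ Sylow p G, MulAction.stabilizer G t = ⊥) := by
  rintro ⟨ht, hs⟩
  classical
  obtain ⟨A, B, C, h1, h2, h3⟩ := H.exists_pair
  let t₀ : Fin 3 ↪ Sylow p G := ⟨![A, B, C], by
    intro i j hij
    fin_cases i <;> fin_cases j <;> simp_all [Ne, eq_comm]⟩
  have := Fintype.ofFinite (Sylow p G)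
  have hcard : Nat.card G = Nat.card (Fin 3 ↪ Sylow p G) := by
    refine Nat.card_congr (Equiv.ofBijective (fun g : G => g • t₀) ⟨fun x y hxy => ?_,
      fun b => ht.exists_smul_eq t₀ b⟩)
    have : (y⁻¹ * x) ∈ MulAction.stabilizer G t₀ := by
      rw [MulAction.mem_stabilizer_iff, mul_smul, show x • t₀ = y • t₀ from hxy, inv_smul_smul]
    rw [hs t₀, Subgroup.mem_bot] at this
    exact (inv_mul_eq_one.1 this).symm
  have hn : Fintype.card (Sylow p G) = p ^ 2 + 1 := by rw [← Nat.card_eq_fintype_card, (H.count A).1]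
  rw [Nat.card_eq_fintype_card (α := Fin 3 ↪ Sylow p G), Fintype.card_embedding_eq, hn,
    Fintype.card_fin] at hcard
  have h9 := H.nine_le
  have hc := H.card
  obtain ⟨r, hr⟩ : ∃ r, p ^ 2 = r + 1 := ⟨p ^ 2 - 1, by omega⟩
  rw [hr] at hc hcard h9
  rw [show (r + 1) ^ 2 - 1 = r * (r + 2) by
    have : (r + 1) ^ 2 = r * (r + 2) + 1 := by ring
    omega] at hc
  simp only [Nat.descFactorial_succ, Nat.descFactorial_zero, mul_one, Nat.sub_zero,
    show r + 1 + 1 - 1 = r + 1 by omega, show r + 1 + 1 - 2 = r by omega] at hcard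
  rw [hcard] at hc
  have e1 : (r + 1) * (r * (r + 2)) = r * ((r + 1) * (r + 1 + 1)) := by ring
  have e2 : 0 < r * ((r + 1) * (r + 1 + 1)) := Nat.mul_pos (by omega) (Nat.mul_pos (by omega) (by omega))
  omega

omit [Fact p.Prime] in
/-- The conclusion. -/
theorem nonempty_mulEquiv {F : Type*} [Field F] [Fintype F] (hF : Fintype.card F = p ^ 2) :
    Nonempty (G ≃* Matrix.ProjectiveSpecialLinearGroup (Fin 2) F) := by
  haveI : Fact p.Prime := ⟨H.prime⟩
  let P : Sylow p G := default
  have hP : (P : Subgroup G) ≤ MulAction.stabilizer G P := by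
    rw [Sylow.stabilizer_eq_normalizer]; exact Subgroup.le_normalizer
  have hn : ((P : Subgroup G).subgroupOf (MulAction.stabilizer G P)).Normal := by
    rw [Sylow.stabilizer_eq_normalizer]
    exact Subgroup.normal_in_normalizer (H := (P : Subgroup G))
  have hab : IsMulCommutative (P : Subgroup G) :=
    IsPGroup.isMulCommutative_of_card_eq_prime_sq (p := p) (H.card_sylow P)
  rcases Cfsg.Agent.S0731.result H.isZassenhaus P (P : Subgroup G) hP hn hab
    (fun y z hy hz => H.existsUnique P y z hy hz) with h | ⟨K, _, _, hK, ⟨e⟩⟩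
  · exact absurd h H.not_sharp
  have hKodd : Odd (Fintype.card K) := by
    rw [Nat.odd_iff]
    exact FiniteField.odd_card_of_char_ne_two hK
  have h1 := Cfsg.Agent.Lib.Linear.two_mul_card_PSL_two_of_odd hKodd
  rw [← Nat.card_congr e.toEquiv, H.card] at h1
  have hKq : Fintype.card K = p ^ 2 := by
    have h9 := H.nine_le
    have hK1 : 1 < Fintype.card K := Fintype.one_lt_card
    rw [mul_assoc, show (Fintype.card K - 1) * (Fintype.card K + 1) = Fintype.card K ^ 2 - 1 by
      rw [mul_comm, ← Nat.sq_sub_sq, one_pow]] at h1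
    generalize Fintype.card K = a at *
    generalize p ^ 2 = q at *
    have mono : ∀ {b c : ℕ}, 1 < b → b < c → b * (b ^ 2 - 1) < c * (c ^ 2 - 1) := fun {b c} hb hbc =>
      Nat.mul_lt_mul_of_lt_of_lt hbc (by
        have := Nat.pow_lt_pow_left hbc two_ne_zero
        have := Nat.one_le_pow 2 b (by omega)
        omega)
    rcases lt_trichotomy a q with h | h | h
    · have := mono hK1 h; omega
    · exact h
    · have := mono (show 1 < q by omega) h; omega
  obtain ⟨f⟩ := Cfsg.Agent.Lib.Linear.nonempty_pslCongr (ι := Fin 2)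
    (FiniteField.ringEquivOfCardEq (K := K) (K' := F) (hKq.trans hF.symm))
  exact ⟨e.trans f⟩

end Hyp

end Cfsg.Agent.Lib.PSLDegrees81
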