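import Mathlib
import Cfsg.Agent.Lib.PSLDegrees81.Zassenhaus
import Cfsg.Agent.Lib.Characters.DefectZero
import Cfsg.Agent.Lib.Characters.Linear
import Cfsg.Agent.Lib.BlocksChars5.Basic

/-!
# The degrees of `PSL₂(p²)` force `p`-singular elements to be `p`-elements
-/

set_option autoImplicit false

namespace Cfsg.Agent.Lib.PSLDegrees81

open scoped ComplexConjugate
open Cfsg.Agent.Lib.Characters.Basic
open Cfsg.Agent.Lib.BlocksChars5.Basic

attribute [local instance] Cfsg.Agent.Lib.BlocksChars5.Basic.irrFintype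

variable {G : Type*} [Group G] [Finite G]

/-- A character whose degree takes up a Hall part containing all of the `r`-part vanishes on
`r`-singular elements. -/
theorem apply_eq_zero_of_part {r a b : ℕ} (hr : r.Prime) (hG : Nat.card G = a * b) (hrb : ¬ r ∣ b)
    (χ : Cfsg.IrrCharacter G) (hd : a ∣ Cfsg.charDegree (χ : G → ℂ)) {g : G} (hg : r ∣ orderOf g) :
    (χ : G → ℂ) g = 0 := by
  have ha : a ≠ 0 := fun h => (Nat.card_pos (α := G)).ne' (by rw [hG, h, zero_mul])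
  obtain ⟨n, a', hra, rfl⟩ := Nat.exists_eq_pow_mul_and_not_dvd ha r hr.ne_one
  obtain ⟨e, he⟩ := hd
  exact Cfsg.Agent.Lib.Characters.DefectZero.apply_eq_zero hr χ (n := n) (r := a' * b) (e := a' * e)
    (by rw [hG, mul_assoc]) (hr.not_dvd_mul hra hrb)
    (by rw [apply_one, he, mul_assoc]) hg

/-- An integer multiple of an algebraic integer is not `-1`, unless the multiplier is a unit. -/
theorem eq_one_of_one_add_mul {M : ℕ} {α : ℂ} (hα : IsIntegral ℤ α) (h : 1 + (M : ℂ) * α = 0) :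
    M = 1 := by
  have hM : (M : ℂ) ≠ 0 := fun h0 => by simp [h0] at h
  have hq : α = ((-(1 / (M : ℚ)) : ℚ) : ℂ) := by
    push_cast
    field_simp
    linear_combination h
  rw [hq] at hα
  have h3 : IsIntegral ℤ (-(1 / (M : ℚ))) :=
    (isIntegral_algHom_iff ((algebraMap ℚ ℂ).toIntAlgHom) (algebraMap ℚ ℂ).injective).mp hα
  obtain ⟨z, hz⟩ := IsIntegrallyClosed.algebraMap_eq_of_integral h3
  have hMq : (M : ℚ) ≠ 0 := by exact_mod_cast hM
  have h4 : ((M : ℤ) * (-z) : ℤ) = 1 := by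
    have : ((M : ℚ) * (-(z : ℚ))) = 1 := by
      have hz' : (z : ℚ) = -(1 / (M : ℚ)) := by simpa using hz
      rw [hz', neg_neg, mul_one_div_cancel hMq]
    exact_mod_cast this
  have := Int.natAbs_mul (M : ℤ) (-z)
  rw [h4, Int.natAbs_natCast] at this
  exact Nat.eq_one_of_mul_eq_one_right this.symm

/-- If every non-trivial irreducible character contributes a multiple of `M` to the column
orthogonality of `g ≠ 1` with the identity, then `M = 1`. -/
theorem modulus_eq_one {g : G} (hg : g ≠ 1) {M : ℕ}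
    (h : ∀ χ : Cfsg.IrrCharacter G, χ ≠ oneChar G →
      (χ : G → ℂ) g = 0 ∨ M ∣ Cfsg.charDegree (χ : G → ℂ)) : M = 1 := by
  classical
  have key : ∀ χ : Cfsg.IrrCharacter G, χ ≠ oneChar G →
      ∃ α : ℂ, IsIntegral ℤ α ∧ (χ : G → ℂ) g * conj ((χ : G → ℂ) 1) = (M : ℂ) * α := by
    intro χ hχ
    rcases h χ hχ with h0 | ⟨e, he⟩
    · exact ⟨0, isIntegral_zero, by rw [h0, zero_mul, mul_zero]⟩
    · refine ⟨(e : ℂ) * (χ : G → ℂ) g,
        (isIntegral_algebraMap (R := ℤ) (x := (e : ℤ))).mul (isIntegral_apply (isCharacter_irr χ) g), ?_⟩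
      rw [apply_one, he, Complex.conj_natCast]
      push_cast
      ring
  choose α hα1 hα2 using key
  have hsum := second_orthogonality g 1
  rw [if_neg (fun hc => hg (isConj_one_left.1 hc)),
    ← Finset.add_sum_erase _ _ (Finset.mem_univ (oneChar G))] at hsum
  refine eq_one_of_one_add_mul (α := ∑ χ ∈ (Finset.univ.erase (oneChar G)).attach,
    α χ.1 (Finset.ne_of_mem_erase χ.2)) (IsIntegral.sum _ fun χ _ => hα1 _ _) ?_
  rw [Finset.mul_sum, ← Finset.sum_congr rfl (fun χ _ => hα2 χ.1 (Finset.ne_of_mem_erase χ.2)),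
    Finset.sum_attach _ (fun χ : Cfsg.IrrCharacter G => (χ : G → ℂ) g * conj ((χ : G → ℂ) 1))]
  simpa [oneChar_apply] using hsum

/-- The degree hypotheses. -/
structure DegHyp (p : ℕ) (G : Type*) [Group G] : Prop where
  prime : p.Prime
  odd : p ≠ 2
  card : 2 * Nat.card G = p ^ 2 * ((p ^ 2) ^ 2 - 1)
  linear : ∀ χ : Cfsg.IrrCharacter G, (χ : G → ℂ) 1 = 1 → χ = oneChar G
  deg : ∀ χ : Cfsg.IrrCharacter G,
    Cfsg.charDegree (χ : G → ℂ) = 1 ∨ Cfsg.charDegree (χ : G → ℂ) = p ^ 2 ∨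
      Cfsg.charDegree (χ : G → ℂ) = p ^ 2 + 1 ∨ Cfsg.charDegree (χ : G → ℂ) + 1 = p ^ 2 ∨
      2 * Cfsg.charDegree (χ : G → ℂ) = p ^ 2 + 1

theorem DegHyp.toHyp {p : ℕ} (H : DegHyp p G) : Hyp p G := by
  refine ⟨H.prime, H.odd, H.card, fun g hpg => ?_⟩
  by_contra hnot
  have hp3 : 3 ≤ p := lt_of_le_of_ne H.prime.two_le H.odd.symm
  have hq9 : 9 ≤ p ^ 2 := Nat.pow_le_pow_left hp3 2
  obtain ⟨h, hh, hhodd⟩ : ∃ h, p ^ 2 + 1 = 2 * h ∧ ¬ 2 ∣ h := by
    obtain ⟨j, hj⟩ := H.prime.odd_of_ne_two H.odd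
    exact ⟨2 * (j * j + j) + 1, by rw [hj]; ring, by omega⟩
  have hcard : Nat.card G = p ^ 2 * (p ^ 2 - 1) * h := by
    have hc := H.card
    rw [← one_pow 2, Nat.sq_sub_sq, hh] at hc
    have : 2 * Nat.card G = 2 * (p ^ 2 * (p ^ 2 - 1) * h) := by
      rw [hc]; ring
    omega
  have hg1 : g ≠ 1 := fun e => H.prime.not_dvd_one (by rwa [e, orderOf_one] at hpg)
  have hpp : ∀ {a : ℕ}, p ∣ a + 1 → ¬ p ∣ a := fun {a} ha hb =>
    H.prime.not_dvd_one ((Nat.dvd_add_right hb).1 ha)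
  have hp1 : ¬ p ∣ p ^ 2 - 1 := hpp (by
    rw [Nat.sub_add_cancel (by omega)]; exact dvd_pow_self p two_ne_zero)
  have hph : ¬ p ∣ h := fun hd => hpp (a := p ^ 2) (hh ▸ hd.mul_left 2) (dvd_pow_self p two_ne_zero)
  obtain ⟨r, hr, hrg, hrp⟩ : ∃ r, r.Prime ∧ r ∣ orderOf g ∧ r ≠ p := by
    by_contra! hall
    exact hnot ⟨_, Nat.eq_prime_pow_of_unique_prime_dvd (orderOf_pos g).ne'
      (fun {d} hd hdv => hall d hd hdv)⟩
  have hrq : ¬ r ∣ p ^ 2 := fun hd =>
    hrp ((Nat.prime_dvd_prime_iff_eq hr H.prime).1 (hr.dvd_of_dvd_pow hd))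
  have vp : ∀ χ : Cfsg.IrrCharacter G, Cfsg.charDegree (χ : G → ℂ) = p ^ 2 →
      (χ : G → ℂ) g = 0 := fun χ hχ =>
    apply_eq_zero_of_part H.prime (a := p ^ 2) (b := (p ^ 2 - 1) * h) (by rw [hcard, mul_assoc])
      (H.prime.not_dvd_mul hp1 hph) χ hχ.symm.dvd hpg
  have hne1 : ∀ χ : Cfsg.IrrCharacter G, χ ≠ oneChar G → Cfsg.charDegree (χ : G → ℂ) ≠ 1 :=
    fun χ hχ e => hχ (H.linear χ (by rw [apply_one, e, Nat.cast_one]))
  have hrG : r ∣ p ^ 2 * (p ^ 2 - 1) * h := hcard ▸ hrg.trans (orderOf_dvd_natCard g)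
  by_cases hrh : r ∣ h
  · have hrm : ¬ r ∣ p ^ 2 - 1 := by
      intro hd
      have h2 : r ∣ 2 := by
        have e : p ^ 2 - 1 + 2 = 2 * h := by omega
        exact (Nat.dvd_add_right hd).1 (e ▸ hrh.mul_left 2)
      exact hhodd ((Nat.prime_dvd_prime_iff_eq hr Nat.prime_two).1 h2 ▸ hrh)
    have := modulus_eq_one hg1 (M := p ^ 2 - 1) fun χ hχ => by
      rcases H.deg χ with e | e | e | e | e
      · exact absurd e (hne1 χ hχ)
      · exact Or.inl (vp χ e)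
      · exact Or.inl (apply_eq_zero_of_part hr (a := h) (b := p ^ 2 * (p ^ 2 - 1))
          (by rw [hcard, mul_comm]) (hr.not_dvd_mul hrq hrm) χ ⟨2, by omega⟩ hrg)
      · exact Or.inr ⟨1, by omega⟩
      · exact Or.inl (apply_eq_zero_of_part hr (a := h) (b := p ^ 2 * (p ^ 2 - 1))
          (by rw [hcard, mul_comm]) (hr.not_dvd_mul hrq hrm) χ ⟨1, by omega⟩ hrg)
    omega
  · have := modulus_eq_one hg1 (M := h) fun χ hχ => by
      rcases H.deg χ with e | e | e | e | e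
      · exact absurd e (hne1 χ hχ)
      · exact Or.inl (vp χ e)
      · exact Or.inr ⟨2, by omega⟩
      · exact Or.inl (apply_eq_zero_of_part hr (a := p ^ 2 - 1) (b := p ^ 2 * h)
          (by rw [hcard]; ring) (hr.not_dvd_mul hrq hrh) χ ⟨1, by omega⟩ hrg)
      · exact Or.inr ⟨1, by omega⟩
    omega

end Cfsg.Agent.Lib.PSLDegrees81
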