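import Mathlib
import Cfsg.Agent.Lib.BlocksChars5.Basic

/-!
# Groups with the same degree multiset
-/

set_option autoImplicit false

namespace Cfsg.Agent.Lib.PSLDegrees81

open Cfsg.Agent.Lib.BlocksChars5.Basic

attribute [local instance] Cfsg.Agent.Lib.BlocksChars5.Basic.irrFintype

variable {G : Type*} [Group G] [Finite G] {L : Type*} [Group L] [Finite L]

theorem exists_degree_equiv
    (h : ∀ d : ℕ, Nat.card {χ : Cfsg.IrrCharacter G // (χ : G → ℂ) 1 = (d : ℂ)} =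
      Nat.card {χ : Cfsg.IrrCharacter L // (χ : L → ℂ) 1 = (d : ℂ)}) :
    ∃ e : Cfsg.IrrCharacter G ≃ Cfsg.IrrCharacter L,
      ∀ χ, Cfsg.charDegree (e χ : L → ℂ) = Cfsg.charDegree (χ : G → ℂ) := by
  have fib : ∀ d : ℕ, Nonempty ({χ : Cfsg.IrrCharacter G // Cfsg.charDegree (χ : G → ℂ) = d} ≃
      {χ : Cfsg.IrrCharacter L // Cfsg.charDegree (χ : L → ℂ) = d}) := fun d => by
    obtain ⟨e⟩ := Finite.card_eq.1 (h d)
    exact ⟨((Equiv.subtypeEquivRight fun χ => by rw [apply_one χ, Nat.cast_inj]).trans e).trans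
      (Equiv.subtypeEquivRight fun χ => by rw [apply_one χ, Nat.cast_inj])⟩
  exact ⟨Equiv.ofFiberEquiv fun d => (fib d).some, fun χ =>
    Equiv.ofFiberEquiv_map (fun d => (fib d).some) χ⟩

theorem card_eq_of_degree_equiv (e : Cfsg.IrrCharacter G ≃ Cfsg.IrrCharacter L)
    (he : ∀ χ, Cfsg.charDegree (e χ : L → ℂ) = Cfsg.charDegree (χ : G → ℂ)) :
    Nat.card G = Nat.card L := by
  rw [← sum_degree_sq (G := G), ← sum_degree_sq (G := L)]
  exact Fintype.sum_equiv e _ _ fun χ => by rw [he]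

end Cfsg.Agent.Lib.PSLDegrees81
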